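import Mathlib
import Cfsg.Agent.FastGrp
import Cfsg.Agent.Prune
set_option linter.all false
prune_inst 0x7f00000000000000000000000000000000000000000000000000000000000000000000000000000000000000000000000000000000000000000000000000000000000000000000000000000000000000003fffffffffffffffffffffffffffbeffbdffffffff
open scoped Cfsg.Agent.FastGrp

/-!
# Counting for free actions

* `card_dvd_of_free` : a free action: the order of the group divides the number of points
* `card_dvd_relIndex_sub` : a group `D` acting on `S / E` with trivial centralisers: `|D|` divides `|S : E| - 1`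
* `injective_bijective` : surjectivity of `u ↦ u⁻¹ d u d⁻¹` on a finite group with no fixed points
-/

set_option autoImplicit false

open Subgroup

namespace Cfsg.Agent.H23.FreeAct

theorem card_dvd_of_free {D α : Type*} [Group D] [Finite D] [Finite α] [MulAction D α]
    (h : ∀ (d : D) (x : α), d • x = x → d = 1) : Nat.card D ∣ Nat.card α := by
  classical
  have : Fintype α := Fintype.ofFinite α
  have : Fintype D := Fintype.ofFinite D
  have e := MulAction.selfEquivSigmaOrbits D α
  have h1 : ∀ x : α, Nat.card (MulAction.orbit D x) = Nat.card D := by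
    intro x
    have h2 := MulAction.orbitEquivQuotientStabilizer D x
    rw [Nat.card_congr h2]
    have h3 : MulAction.stabilizer D x = ⊥ := by
      rw [eq_bot_iff]
      intro d hd
      exact Subgroup.mem_bot.mpr (h d x hd)
    rw [h3]
    exact Nat.card_congr (QuotientGroup.quotientBot (G := D)).toEquiv
  rw [Nat.card_congr e, Nat.card_sigma]
  exact Finset.dvd_sum fun ω _ => by rw [h1]

variable {G : Type*} [Group G]

theorem card_dvd_relIndex_sub [Finite G] {D S E : Subgroup G} 
    (hDS : ∀ d ∈ D, ∀ s ∈ S, d * s * d⁻¹ ∈ S) (hDE : ∀ d ∈ D, ∀ e ∈ E, d * e * d⁻¹ ∈ E)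
    (hsr : ∀ d ∈ D, d ≠ 1 → ∀ s ∈ S, s⁻¹ * (d * s * d⁻¹) ∈ E → s ∈ E) :
    Nat.card D ∣ E.relIndex S - 1 := by
  classical
  let act : MulAction D (S ⧸ E.subgroupOf S) :=
    { smul := fun d x => Quotient.map' (fun s : S => (⟨d * s * (d : G)⁻¹, hDS d d.2 s s.2⟩ : S)) (by
        intro s t hst
        rw [QuotientGroup.leftRel_apply, Subgroup.mem_subgroupOf] at hst ⊢
        have := hDE d d.2 _ hst
        have e : (d : G) * ((s⁻¹ * t : S) : G) * (d : G)⁻¹ =
            ((d : G) * s * (d : G)⁻¹)⁻¹ * ((d : G) * t * (d : G)⁻¹) := by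
          push_cast; group
        rw [e] at this
        exact this) x
      one_smul := by
        intro x
        induction x using Quotient.inductionOn' with
        | h s =>
          show Quotient.mk'' _ = _
          congr 1
          apply Subtype.ext
          simp
      mul_smul := by
        intro d d' x
        induction x using Quotient.inductionOn' with
        | h s =>
          show Quotient.mk'' _ = Quotient.mk'' _
          congr 1
          apply Subtype.ext
          simp [mul_assoc] }
  have hsm : ∀ (d : D) (s : S), d • (QuotientGroup.mk s : S ⧸ E.subgroupOf S) =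
      QuotientGroup.mk (⟨d * s * (d : G)⁻¹, hDS d d.2 s s.2⟩ : S) := fun d s => rfl
  have hone : ∀ d : D, d • (QuotientGroup.mk 1 : S ⧸ E.subgroupOf S) = QuotientGroup.mk 1 := by
    intro d
    rw [hsm]
    congr 1
    apply Subtype.ext
    simp
  let act2 : MulAction D {x : S ⧸ E.subgroupOf S // x ≠ QuotientGroup.mk 1} :=
    { smul := fun d x => ⟨d • x.1, fun hh => x.2 (by
        have := congrArg (fun y => d⁻¹ • y) hh
        simp only [inv_smul_smul, hone] at this
        exact this)⟩
      one_smul := fun x => Subtype.ext (one_smul D x.1)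
      mul_smul := fun d d' x => Subtype.ext (mul_smul d d' x.1) }
  have h1 := card_dvd_of_free (D := D) (α := {x : S ⧸ E.subgroupOf S // x ≠ QuotientGroup.mk 1}) (by
    rintro d ⟨x, hx⟩ h
    have h2 : d • x = x := congrArg Subtype.val h
    induction x using QuotientGroup.induction_on with
    | H s =>
      rw [hsm, eq_comm, QuotientGroup.eq, Subgroup.mem_subgroupOf] at h2
      by_contra hd
      apply hx
      rw [eq_comm, QuotientGroup.eq, Subgroup.mem_subgroupOf]
      have h3 := hsr d d.2 (fun hh => hd (Subtype.ext hh)) s s.2 (by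
        have e : (s : G)⁻¹ * ((d : G) * s * (d : G)⁻¹) =
          ((s⁻¹ * ⟨d * s * (d : G)⁻¹, hDS d d.2 s s.2⟩ : S) : G) := by push_cast; rfl
        rw [e]; exact h2)
      simpa using h3)
  have h2 : Nat.card {x : S ⧸ E.subgroupOf S // x ≠ QuotientGroup.mk 1} = E.relIndex S - 1 := by
    have h3 : Nat.card (S ⧸ E.subgroupOf S) = E.relIndex S := rfl
    rw [← h3]
    have := Nat.card_congr (Equiv.sumCompl (fun x : S ⧸ E.subgroupOf S => x = QuotientGroup.mk 1))
    rw [Nat.card_sum] at this
    have h4 : Nat.card {x : S ⧸ E.subgroupOf S // x = QuotientGroup.mk 1} = 1 := by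
      rw [Nat.card_eq_one_iff_unique]
      exact ⟨⟨fun x y => Subtype.ext (x.2.trans y.2.symm)⟩, ⟨⟨_, rfl⟩⟩⟩
    have h5 : Nat.card {x : S ⧸ E.subgroupOf S // ¬ x = QuotientGroup.mk 1} =
      Nat.card {x : S ⧸ E.subgroupOf S // x ≠ QuotientGroup.mk 1} := rfl
    rw [h4, h5] at this
    omega
  rwa [h2] at h1

end Cfsg.Agent.H23.FreeAct
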